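import Mathlib
import Groth.Prelude.Def_FrobAlg

/-!
# Perfect closure over a ring whose Frobenius is projective
-/

set_option autoImplicit false
universe u v w
open scoped TensorProduct

namespace Groth.Agent.PerfCloLib

/-- Tensoring with a projective module commutes injectively with products. -/
theorem eq_zero_of_forall_proj {R : Type u} [CommRing R] {P : Type v} [AddCommGroup P] [Module R P]
    [Module.Projective R P] {ι : Type w} {M : ι → Type v} [∀ i, AddCommGroup (M i)] [∀ i, Module R (M i)]
    (t : P ⊗[R] (∀ i, M i))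
    (h : ∀ i, (LinearMap.proj i : (∀ i, M i) →ₗ[R] M i).lTensor P t = 0) : t = 0 := by
  classical
  obtain ⟨s, hs⟩ := Module.projective_def.1 (inferInstance : Module.Projective R P)
  have hsplit : ∀ N : Type (max v w), ∀ [AddCommGroup N] [Module R N], ∀ z : P ⊗[R] N,
      (Finsupp.linearCombination R id).rTensor N (s.rTensor N z) = z := by
    intro N _ _ z
    rw [← LinearMap.comp_apply, ← LinearMap.rTensor_comp,
      show (Finsupp.linearCombination R id).comp s = LinearMap.id from LinearMap.ext hs,
      LinearMap.rTensor_id, LinearMap.id_apply]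
  suffices h0 : s.rTensor (∀ i, M i) t = 0 by
    have := hsplit _ t
    rw [h0, map_zero] at this
    exact this.symm
  set e := TensorProduct.finsuppScalarLeft R (∀ i, M i) P
  refine e.injective ?_
  rw [map_zero]
  ext l i
  have h1 : ∀ z, e z l i = TensorProduct.lid R (M i)
      ((Finsupp.lapply l).rTensor (M i) ((LinearMap.proj i).lTensor (P →₀ R) z)) := by
    intro z
    induction z using TensorProduct.induction_on with
    | zero => simp
    | add a b ha hb => simp [map_add, ha, hb]
    | tmul a b => simp [e]
  rw [h1, ← LinearMap.comp_apply (LinearMap.lTensor _ _), LinearMap.lTensor_comp_rTensor,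
    ← LinearMap.rTensor_comp_lTensor, LinearMap.comp_apply, h i, map_zero, map_zero, map_zero]
  rfl

theorem projective_trans (R T S : Type u) [CommRing R] [CommRing T] [CommRing S] [Algebra R T]
    [Algebra R S] [Algebra T S] [IsScalarTower R T S] [Module.Projective R T] [Module.Projective T S] :
    Module.Projective R S := by
  obtain ⟨s, hs⟩ := Module.projective_def.1 (inferInstance : Module.Projective T S)
  obtain ⟨t, ht⟩ := Module.projective_def.1 (inferInstance : Module.Projective R T)
  haveI : Module.Projective R (S →₀ T) := Module.Projective.of_split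
    (Finsupp.mapRange.linearMap t) (Finsupp.mapRange.linearMap (Finsupp.linearCombination R id))
    (LinearMap.ext fun x => Finsupp.ext fun a => by simpa using ht (x a))
  exact Module.Projective.of_split (s.restrictScalars R)
    ((Finsupp.linearCombination T id).restrictScalars R) (LinearMap.ext hs)

variable (p : ℕ) [Fact p.Prime] (R : Type u) [CommRing R] [CharP R p]

/-- A copy of `R`, an algebra over `R` through the `n`-th iterate of Frobenius. -/
@[nolint unusedArguments]
def Lev (_p : ℕ) (R : Type u) (_n : ℕ) : Type u := R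

instance (n : ℕ) : CommRing (Lev p R n) := inferInstanceAs (CommRing R)

/-- The identity of underlying rings. -/
def toLev (n : ℕ) : R ≃+* Lev p R n := RingEquiv.refl R

instance algebraLev (n : ℕ) : Algebra R (Lev p R n) :=
  ((toLev p R n : R →+* Lev p R n).comp (iterateFrobenius R p n)).toAlgebra

theorem smul_lev (n : ℕ) (r : R) (x : Lev p R n) :
    r • x = toLev p R n (iterateFrobenius R p n r * (toLev p R n).symm x) := rfl

theorem projective_lev [Module.Projective R (FrobAlg.Twist p R)] (n : ℕ) :
    Module.Projective R (Lev p R n) := by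
  induction n with
  | zero =>
    exact Module.Projective.of_equiv
      ({ (toLev p R 0).toAddEquiv with
        map_smul' := fun r x => by
          show toLev p R 0 (r * x) = toLev p R 0 (iterateFrobenius R p 0 r * x)
          rw [iterateFrobenius_zero_apply] } : R ≃ₗ[R] Lev p R 0)
  | succ n ih =>
    letI aS : Algebra (FrobAlg.Twist p R) (Lev p R (n + 1)) :=
      ((toLev p R (n + 1) : R →+* Lev p R (n + 1)).comp ((iterateFrobenius R p n).comp
        ((FrobAlg.toTwist p R).symm : FrobAlg.Twist p R →+* R))).toAlgebra
    haveI : IsScalarTower R (FrobAlg.Twist p R) (Lev p R (n + 1)) := IsScalarTower.of_algebraMap_eq fun r => by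
      show iterateFrobenius R p (n + 1) r = iterateFrobenius R p n (r ^ p)
      simp [iterateFrobenius_def, ← pow_mul, pow_succ']
    haveI : Module.Projective (FrobAlg.Twist p R) (Lev p R (n + 1)) := ih
    exact projective_trans R (FrobAlg.Twist p R) (Lev p R (n + 1))

/-- The embedding of the `n`-th level into the perfect closure. -/
def lev (n : ℕ) : R →+* PerfectClosure R p where
  toFun x := PerfectClosure.mk R p (n, x)
  map_one' := by
    rw [PerfectClosure.one_def, PerfectClosure.mk_eq_iff]
    exact ⟨0, by simp⟩
  map_mul' x y := by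
    rw [PerfectClosure.mk_mul_mk, PerfectClosure.mk_eq_iff]
    exact ⟨0, by simp [← Function.iterate_add_apply, iterate_map_mul]⟩
  map_zero' := PerfectClosure.mk_zero_right R p n
  map_add' x y := by
    rw [PerfectClosure.mk_add_mk, PerfectClosure.mk_eq_iff]
    exact ⟨0, by simp [← Function.iterate_add_apply, iterate_map_add]⟩

theorem lev_zero : lev p R 0 = PerfectClosure.of R p := rfl

theorem lev_add (n d : ℕ) (x : R) : lev p R (n + d) (iterateFrobenius R p d x) = lev p R n x := by
  show PerfectClosure.mk R p _ = PerfectClosure.mk R p _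
  rw [PerfectClosure.mk_eq_iff, coe_iterateFrobenius]
  exact ⟨0, by simp [← Function.iterate_add_apply, add_comm]⟩

theorem exists_common_level {ι : Type} [Finite ι] (m : ℕ) (x : ι → PerfectClosure R p) :
    ∃ (d : ℕ) (a : ι → R), ∀ i, x i = lev p R (m + d) (a i) := by
  choose y hy using fun i => PerfectClosure.mk_surjective R p (x i)
  cases nonempty_fintype ι
  let N := Finset.univ.sup fun i => (y i).1
  have key : ∀ (M : ℕ) (q : ℕ × R), q.1 ≤ M → ∃ b, PerfectClosure.mk R p q = lev p R M b := by
    intro M q hq
    obtain ⟨d, rfl⟩ := Nat.le.dest hq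
    exact ⟨iterateFrobenius R p d q.2, (lev_add p R q.1 d q.2).symm⟩
  choose a ha using fun i => key (m + N) (y i)
    (le_trans (Finset.le_sup (f := fun i => (y i).1) (Finset.mem_univ i)) (Nat.le_add_left _ _))
  exact ⟨N, a, fun i => (hy i).symm.trans (ha i)⟩

theorem exists_iterate_eq_zero {n : ℕ} {x : R} (h : lev p R n x = 0) :
    ∃ z, iterateFrobenius R p z x = 0 := by
  change PerfectClosure.mk R p (n, x) = 0 at h
  rw [← PerfectClosure.mk_zero_right R p 0, PerfectClosure.mk_eq_iff] at h
  obtain ⟨z, hz⟩ := h
  refine ⟨0 + z, ?_⟩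
  rw [coe_iterateFrobenius]
  simpa [iterate_map_zero] using hz

theorem flat_lev [Module.Projective R (FrobAlg.Twist p R)] (n : ℕ) : (lev p R n).Flat := by
  letI := (lev p R n).toAlgebra
  show Module.Flat R (PerfectClosure R p)
  rw [Module.Flat.iff_forall_isTrivialRelation]
  intro l r x h
  obtain ⟨d, a, ha⟩ := exists_common_level p R n x
  have h1 : lev p R (n + d) (∑ i, iterateFrobenius R p d (r i) * a i) = 0 := by
    rw [map_sum, ← h]
    refine Finset.sum_congr rfl fun i _ => ?_
    rw [map_mul, lev_add, ← ha, Algebra.smul_def]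
    rfl
  obtain ⟨z, hz⟩ := exists_iterate_eq_zero p R h1
  rw [map_sum] at hz
  haveI := projective_lev p R (z + d)
  have hrel : ∑ i, r i • toLev p R (z + d) (iterateFrobenius R p z (a i)) = 0 := by
    refine Eq.trans (Finset.sum_congr rfl fun i _ => ?_) hz
    rw [map_mul]
    show iterateFrobenius R p (z + d) (r i) * iterateFrobenius R p z (a i) = _
    rw [iterateFrobenius_add_apply]
  obtain ⟨k, c, y, hy1, hy2⟩ := Module.Flat.isTrivialRelation_of_sum_smul_eq_zero (R := R)
    (M := Lev p R (z + d)) (f := r) (x := fun i => toLev p R (z + d) (iterateFrobenius R p z (a i))) hrel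
  refine ⟨k, c, fun j => lev p R (n + d + z) ((toLev p R (z + d)).symm (y j)), fun i => ?_, hy2⟩
  have h3 := congrArg (toLev p R (z + d)).symm (hy1 i)
  simp only [RingEquiv.symm_apply_apply] at h3
  simp only [ha, ← lev_add p R (n + d) z, h3, map_sum]
  refine Finset.sum_congr rfl fun j _ => ?_
  rw [smul_lev, RingEquiv.symm_apply_apply, map_mul, Algebra.smul_def]
  show lev p R (n + d + z) (iterateFrobenius R p (z + d) _) * _ = _
  rw [add_assoc, add_comm d z, lev_add]
  rfl

theorem faithfullyFlat_lev [Module.Projective R (FrobAlg.Twist p R)] (n : ℕ) :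
    (lev p R n).FaithfullyFlat := by
  rw [RingHom.FaithfullyFlat.iff_flat_and_comap_surjective]
  refine ⟨flat_lev p R n, ?_⟩
  have hker : ∀ x, lev p R n x = 0 → IsNilpotent x := fun x hx => by
    obtain ⟨z, hz⟩ := exists_iterate_eq_zero p R hx
    exact ⟨p ^ z, by rwa [iterateFrobenius_def] at hz⟩
  refine (PrimeSpectrum.isHomeomorph_comap (lev p R n) ?_ fun x hx => mem_nilradical.2 (hker x hx)).surjective
  intro y
  obtain ⟨⟨m, b⟩, rfl⟩ := PerfectClosure.mk_surjective R p y
  refine ⟨p ^ m, pow_pos (Fact.out : p.Prime).pos _, iterateFrobenius R p n b, ?_⟩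
  show PerfectClosure.mk R p _ = PerfectClosure.mk R p (m, b) ^ p ^ m
  rw [PerfectClosure.mk_pow, PerfectClosure.mk_eq_iff, coe_iterateFrobenius]
  refine ⟨0, ?_⟩
  rw [← iterateFrobenius_def, coe_iterateFrobenius]
  simp [← Function.iterate_add_apply, add_comm]

/-- Injectivity of `R' ⊗ ∏ M → ∏ (R' ⊗ M)` for the perfect closure `R'`. -/
theorem eq_zero_of_forall_proj_perfectClosure [Module.Projective R (FrobAlg.Twist p R)]
    {ι : Type w} {M : ι → Type u} [∀ i, AddCommGroup (M i)] [∀ i, Module R (M i)] :
    letI : Algebra R (PerfectClosure R p) := (PerfectClosure.of R p).toAlgebra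
    ∀ z : PerfectClosure R p ⊗[R] (∀ i, M i),
      (∀ i, (LinearMap.proj i : (∀ i, M i) →ₗ[R] M i).lTensor (PerfectClosure R p) z = 0) → z = 0 := by
  letI : Algebra R (PerfectClosure R p) := (PerfectClosure.of R p).toAlgebra
  intro z hz
  obtain ⟨S, hS⟩ := TensorProduct.exists_finset z
  obtain ⟨N, a, ha⟩ := exists_common_level p R 0 (fun q : Fin S.card => (S.equivFin.symm q).1.1)
  rw [zero_add] at ha
  let T := FrobAlg.Twist p R
  -- level `N` as an algebra
  letI aS : Algebra (Lev p R N) (PerfectClosure R p) :=
    ((lev p R N).comp ((toLev p R N).symm : Lev p R N →+* R)).toAlgebra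
  haveI : IsScalarTower R (Lev p R N) (PerfectClosure R p) := IsScalarTower.of_algebraMap_eq fun r => by
    show PerfectClosure.of R p r = lev p R N (iterateFrobenius R p N r)
    rw [← lev_zero]
    simpa using (lev_add p R 0 N r).symm
  haveI := projective_lev p R N
  haveI : Module.FaithfullyFlat (Lev p R N) (PerfectClosure R p) := faithfullyFlat_lev p R N
  let φ : (Lev p R N) →ₗ[R] PerfectClosure R p :=
    (IsScalarTower.toAlgHom R ((Lev p R N)) (PerfectClosure R p)).toLinearMap
  -- `φ ⊗ M` is injective
  have hφ : ∀ (Q : Type u) [AddCommGroup Q] [Module R Q], Function.Injective (φ.rTensor Q) := by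
    intro Q _ _
    have h1 := Module.FaithfullyFlat.tensorProduct_mk_injective (A := (Lev p R N))
      (B := PerfectClosure R p) ((Lev p R N) ⊗[R] Q)
    let c := TensorProduct.AlgebraTensorModule.cancelBaseChange R ((Lev p R N)) ((Lev p R N))
      (PerfectClosure R p) Q
    have h2 : ∀ t, φ.rTensor Q t = c (1 ⊗ₜ t) := by
      intro t
      induction t using TensorProduct.induction_on with
      | zero => simp
      | add a b ha hb => rw [map_add, ha, hb, TensorProduct.tmul_add, map_add]
      | tmul a b =>
        simp [c, φ, Algebra.smul_def]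
    intro s t hst
    rw [h2, h2] at hst
    exact h1 (c.injective hst)
  let w : (Lev p R N) ⊗[R] (∀ i, M i) :=
    ∑ q : Fin S.card, toLev p R N (a q) ⊗ₜ (S.equivFin.symm q).1.2
  have hw : φ.rTensor (∀ i, M i) w = z := by
    rw [map_sum, hS, ← Finset.sum_coe_sort S, ← S.equivFin.symm.sum_comp]
    refine Finset.sum_congr rfl fun q _ => ?_
    rw [LinearMap.rTensor_tmul, ha q]
    rfl
  have hw0 : w = 0 := eq_zero_of_forall_proj w fun i => by
    refine hφ (M i) ?_
    rw [map_zero, ← LinearMap.comp_apply, LinearMap.rTensor_comp_lTensor,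
      ← LinearMap.lTensor_comp_rTensor, LinearMap.comp_apply, hw]
    exact hz i
  rw [← hw, hw0, map_zero]

end Groth.Agent.PerfCloLib
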